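import Mathlib
import Cfsg.Agent.Lib.Transfer.Basic

/-!
# Groups in which centralizers of non-central elements are maximal: elementary facts
-/

set_option autoImplicit false
set_option linter.style.haveILetI false
set_option linter.unusedSectionVars false

namespace Cfsg.Agent.Lib.CentMax.Basic

open Subgroup

variable {G : Type*} [Group G]

/-- The centralizer of an element. -/
abbrev cen (x : G) : Subgroup G := centralizer ({x} : Set G)

theorem mem_cen {x g : G} : g ∈ cen x ↔ g * x = x * g := mem_centralizer_singleton_iff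

theorem mem_cen_comm {x g : G} : g ∈ cen x ↔ x ∈ cen g := by
  rw [mem_cen, mem_cen]
  exact eq_comm

theorem cen_eq_top_iff {x : G} : cen x = ⊤ ↔ x ∈ center G := by
  constructor
  · intro h
    rw [mem_center_iff]
    intro g
    have hg : g ∈ cen x := h ▸ mem_top g
    exact mem_cen.mp hg
  · intro h
    rw [eq_top_iff]
    intro g _
    exact mem_cen.mpr ((mem_center_iff.mp h) g)

theorem cen_le_of_mem_zpowers {x y : G} (h : y ∈ zpowers x) : cen x ≤ cen y := by
  intro g hg
  obtain ⟨k, rfl⟩ := h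
  have hc : Commute g x := mem_cen.mp hg
  exact mem_cen.mpr (hc.zpow_right k)

theorem mem_cen_of_mem_zpowers {x y z : G} (hy : y ∈ zpowers x) (hz : z ∈ cen x) : z ∈ cen y :=
  cen_le_of_mem_zpowers hy hz

theorem zpowers_le_cen {x y : G} (h : y ∈ cen x) : zpowers y ≤ cen x := by
  rw [zpowers_le]
  exact h

theorem mem_zpowers_mul_of_coprime {x y : G} [Finite G] (hc : Commute x y)
    (hco : (orderOf x).Coprime (orderOf y)) : x ∈ zpowers (x * y) := by
  obtain ⟨k, hk1, hk2⟩ : ∃ k : ℕ, k ≡ 1 [MOD orderOf x] ∧ k ≡ 0 [MOD orderOf y] := by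
    let c := Nat.chineseRemainder hco 1 0
    exact ⟨c, c.2.1, c.2.2⟩
  refine ⟨(k : ℤ), ?_⟩
  change (x * y) ^ (k : ℤ) = x
  rw [zpow_natCast, hc.mul_pow]
  have h1 : x ^ k = x ^ 1 := (pow_eq_pow_iff_modEq).mpr hk1
  have h2 : y ^ k = 1 := by
    have : y ^ k = y ^ 0 := (pow_eq_pow_iff_modEq).mpr hk2
    simpa using this
  rw [h1, h2, pow_one, mul_one]

section main

variable [Finite G] (h : ∀ x : G, x ∉ center G → IsCoatom (cen x))

include h

theorem cen_eq_of_le {x y : G} (hx : x ∉ center G) (hy : y ∉ center G) (hle : cen x ≤ cen y) :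
    cen x = cen y := by
  by_contra hne
  exact hy (cen_eq_top_iff.mp ((h x hx).2 (cen y) (lt_of_le_of_ne hle hne)))

/-- Commuting non-central elements of coprime orders have the same centralizer. -/
theorem cen_eq_of_coprime {x y : G} (hx : x ∉ center G) (hy : y ∉ center G) (hc : Commute x y)
    (hco : (orderOf x).Coprime (orderOf y)) : cen x = cen y := by
  have h1 : x ∈ zpowers (x * y) := mem_zpowers_mul_of_coprime hc hco
  have h2 : y ∈ zpowers (x * y) := by
    have := mem_zpowers_mul_of_coprime hc.symm hco.symm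
    rwa [hc.symm.eq] at this
  have hxy : x * y ∉ center G := by
    intro hmem
    exact hx ((zpowers_le.mpr hmem) h1)
  rw [← cen_eq_of_le h hxy hx (cen_le_of_mem_zpowers h1),
    ← cen_eq_of_le h hxy hy (cen_le_of_mem_zpowers h2)]

omit h in
theorem isPrimePow_part {x : G} {p : ℕ} (hp : p.Prime) {k : ℕ} (hk : x ^ p ^ k = 1) :
    ∃ j, orderOf x = p ^ j := by
  obtain ⟨j, -, hj⟩ := (Nat.dvd_prime_pow hp).mp (orderOf_dvd_of_pow_eq_one hk)
  exact ⟨j, hj⟩

/-- Every non-central element has a non-central power of prime power order, with the same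
centralizer. -/
theorem exists_prime_part (x : G) (hx : x ∉ center G) :
    ∃ (p : ℕ), p.Prime ∧ ∃ x' ∈ zpowers x, x' ∉ center G ∧ (∃ k, orderOf x' = p ^ k) ∧
      cen x' = cen x := by
  induction hn : orderOf x using Nat.strong_induction_on generalizing x with
  | _ n ih =>
    have hx1 : orderOf x ≠ 1 := by
      intro h1
      rw [orderOf_eq_one_iff] at h1
      exact hx (h1 ▸ one_mem _)
    obtain ⟨p, hp, hpd⟩ := Nat.exists_prime_and_dvd hx1
    haveI : Fact p.Prime := ⟨hp⟩
    obtain ⟨a, b, hab, -, ha, hb, ⟨k, hk⟩, hbc⟩ :=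
      Cfsg.Agent.Lib.Transfer.Basic.exists_pPart_decomp (p := p) x
    by_cases haZ : a ∈ center G
    · have hbZ : b ∉ center G := by
        intro hbZ
        exact hx (hab ▸ mul_mem haZ hbZ)
      have hlt : orderOf b < n := by
        have h1 : orderOf b ∣ orderOf x := orderOf_dvd_of_mem_zpowers hb
        have h2 : orderOf b ≠ orderOf x := by
          intro h3
          rw [← h3] at hpd
          have := Nat.Coprime.eq_one_of_dvd hbc.symm hpd
          exact hp.one_lt.ne' this
        rw [← hn]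
        exact lt_of_le_of_ne (Nat.le_of_dvd (orderOf_pos _) h1) h2
      obtain ⟨r, hr, x', hx', hx'Z, hx'o, hx'c⟩ := ih _ hlt b hbZ rfl
      refine ⟨r, hr, x', (zpowers_le.mpr hb) hx', hx'Z, hx'o, ?_⟩
      rw [hx'c]
      exact (cen_eq_of_le h hx hbZ (cen_le_of_mem_zpowers hb)).symm
    · refine ⟨p, hp, a, ha, haZ, isPrimePow_part hp hk, ?_⟩
      exact (cen_eq_of_le h hx haZ (cen_le_of_mem_zpowers ha)).symm

/-- `p'`-elements in the centralizer of a non-central `p`-element are central in that centralizer. -/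
theorem comm_of_coprime {x y m : G} {p k : ℕ} (hx : x ∉ center G) (hxo : orderOf x = p ^ k)
    (hy : y ∈ cen x) (hyc : (orderOf y).Coprime p) (hm : m ∈ cen x) : m * y = y * m := by
  by_cases hyZ : y ∈ center G
  · exact (mem_center_iff.mp hyZ m)
  · have hco : (orderOf x).Coprime (orderOf y) := by
      rw [hxo]
      exact Nat.Coprime.pow_left k hyc.symm
    have hc : Commute x y := (mem_cen.mp hy).symm
    rw [cen_eq_of_coprime h hx hyZ hc hco] at hm
    exact mem_cen.mp hm

omit h in
/-- A group whose `p'`-elements are all central is nilpotent. -/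
theorem isNilpotent_of_coprime_central {H : Type*} [Group H] [Finite H] {p : ℕ} [hp : Fact p.Prime]
    (hy : ∀ y : H, (orderOf y).Coprime p → y ∈ center H) : Group.IsNilpotent H := by
  have hQ : IsPGroup p (H ⧸ center H) := by
    intro q
    obtain ⟨g, rfl⟩ := QuotientGroup.mk'_surjective _ q
    obtain ⟨a, b, rfl, -, -, -, ⟨k, hk⟩, hb⟩ :=
      Cfsg.Agent.Lib.Transfer.Basic.exists_pPart_decomp (p := p) g
    refine ⟨k, ?_⟩
    have hb' : (QuotientGroup.mk' (center H)) b = 1 := (QuotientGroup.eq_one_iff b).mpr (hy b hb)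
    rw [map_mul, hb', mul_one, ← map_pow, hk, map_one]
  haveI := hQ.isNilpotent
  exact Group.of_quotient_center_nilpotent (G := H) (hQ.isNilpotent)

/-- The centralizer of a non-central `p`-element is nilpotent. -/
theorem isNilpotent_cen {x : G} {p k : ℕ} [hp : Fact p.Prime] (hx : x ∉ center G)
    (hxo : orderOf x = p ^ k) : Group.IsNilpotent (cen x) := by
  refine isNilpotent_of_coprime_central (p := p) ?_
  intro y hy
  rw [mem_center_iff]
  intro m
  apply Subtype.ext
  have hyo : (orderOf (y : G)).Coprime p := by rwa [Subgroup.orderOf_coe]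
  exact comm_of_coprime h hx hxo y.2 hyo m.2

/-- A non-abelian centralizer of a `p`-element has all its `p'`-elements central in `G`. -/
theorem mem_center_of_nonabelian {x y : G} {p k : ℕ} [hp : Fact p.Prime] (hx : x ∉ center G)
    (hxo : orderOf x = p ^ k) (hna : ¬ IsMulCommutative (cen x)) (hy : y ∈ cen x)
    (hyc : (orderOf y).Coprime p) : y ∈ center G := by
  by_contra hyZ
  obtain ⟨r, hr, y', hy', hy'Z, ⟨j, hj⟩, -⟩ := exists_prime_part h y hyZ
  haveI : Fact r.Prime := ⟨hr⟩
  have hy'1 : y' ≠ 1 := fun h1 => hy'Z (h1 ▸ one_mem _)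
  have hj0 : j ≠ 0 := by
    rintro rfl
    rw [pow_zero, orderOf_eq_one_iff] at hj
    exact hy'1 hj
  have hrd : r ∣ orderOf y' := by
    rw [hj]
    exact dvd_pow_self r hj0
  have hy'dvd : orderOf y' ∣ orderOf y := orderOf_dvd_of_mem_zpowers hy'
  have hrp : r ≠ p := by
    rintro rfl
    have := Nat.Coprime.eq_one_of_dvd hyc.symm (hrd.trans hy'dvd)
    exact hr.one_lt.ne' this
  have hy'x : y' ∈ cen x := (zpowers_le_cen hy) hy'
  have hco : (orderOf x).Coprime (orderOf y') := by
    rw [hxo, hj]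
    exact Nat.Coprime.pow _ _ ((Nat.coprime_primes hp.out hr).mpr hrp.symm)
  have hceq : cen x = cen y' := cen_eq_of_coprime h hx hy'Z (mem_cen.mp hy'x).symm hco
  apply hna
  have hcentral : ∀ a ∈ cen x, ∀ m ∈ cen x, m * a = a * m := by
    intro a ha m hm
    obtain ⟨a₁, a₂, rfl, -, ha₁, ha₂, ⟨l, hl⟩, ha₂c⟩ :=
      Cfsg.Agent.Lib.Transfer.Basic.exists_pPart_decomp (p := p) a
    have ha₁m : a₁ ∈ cen x := (zpowers_le_cen ha) ha₁
    have ha₂m : a₂ ∈ cen x := (zpowers_le_cen ha) ha₂
    have h2 := comm_of_coprime h hx hxo ha₂m ha₂c hm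
    have hco₁ : (orderOf a₁).Coprime r := by
      obtain ⟨i, hi⟩ := isPrimePow_part hp.out hl
      rw [hi]
      exact Nat.Coprime.pow_left i ((Nat.coprime_primes hp.out hr).mpr hrp.symm)
    rw [hceq] at ha₁m hm
    have h1 := comm_of_coprime h hy'Z hj ha₁m hco₁ hm
    calc m * (a₁ * a₂) = (m * a₁) * a₂ := by group
      _ = a₁ * (m * a₂) := by rw [h1]; group
      _ = a₁ * (a₂ * m) := by rw [h2]
      _ = a₁ * a₂ * m := by group
  exact ⟨⟨fun a b => Subtype.ext (hcentral a a.2 b b.2).symm⟩⟩

end main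

end Cfsg.Agent.Lib.CentMax.Basic
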