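import Mathlib
import Cfsg.Agent.Lib.CentMax.Basic

/-!
# Groups in which centralizers of non-central elements are maximal: non-normal centralizers are abelian
-/

set_option autoImplicit false
set_option linter.style.haveILetI false
set_option linter.unusedSectionVars false

namespace Cfsg.Agent.Lib.CentMax.Abelian

open Subgroup Cfsg.Agent.Lib.CentMax.Basic

variable {G : Type*} [Group G] [Finite G]

/-- A `p`-element normalizing a Sylow `p`-subgroup lies in it. -/
theorem mem_sylow_of_mem_normalizer {p k : ℕ} [hp : Fact p.Prime] (S : Sylow p G) {v : G}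
    (hvo : orderOf v = p ^ k) (hv : v ∈ normalizer ((S : Subgroup G) : Set G)) :
    v ∈ (S : Subgroup G) := by
  have hQ : IsPGroup p (zpowers v) := by
    rw [IsPGroup.iff_card, Nat.card_zpowers, hvo]
    exact ⟨k, rfl⟩
  have h1 : zpowers v ⊓ normalizer ((S : Subgroup G) : Set G) = zpowers v ⊓ (S : Subgroup G) :=
    hQ.inf_normalizer_sylow S
  have h2 : v ∈ zpowers v ⊓ normalizer ((S : Subgroup G) : Set G) := ⟨mem_zpowers v, hv⟩
  rw [h1] at h2
  exact h2.2

/-- An element of a `p`-subgroup is a `p`-element. -/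
theorem orderOf_of_mem {p : ℕ} [hp : Fact p.Prime] {P : Subgroup G} (hP : IsPGroup p P) {v : G}
    (hv : v ∈ P) : ∃ k, orderOf v = p ^ k := by
  obtain ⟨k, hk⟩ := hP ⟨v, hv⟩
  exact isPrimePow_part hp.out (congrArg Subtype.val hk)

/-- Normalizers grow in `p`-groups. -/
theorem exists_mem_normalizer {p : ℕ} [hp : Fact p.Prime] {T D : Subgroup G} (hT : IsPGroup p T)
    (hDT : D ≤ T) (hne : D ≠ T) : ∃ v ∈ T, v ∉ D ∧ v ∈ normalizer (D : Set G) := by
  haveI : Group.IsNilpotent T := hT.isNilpotent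
  have hc : NormalizerCondition T := Group.normalizerCondition_of_isNilpotent
  have hlt : D.subgroupOf T < ⊤ := by
    rw [lt_top_iff_ne_top]
    intro htop
    apply hne
    apply le_antisymm hDT
    intro y hy
    have : (⟨y, hy⟩ : T) ∈ D.subgroupOf T := by rw [htop]; trivial
    exact this
  have hgrow := hc _ hlt
  obtain ⟨v, hv, hvn⟩ := SetLike.exists_of_lt hgrow
  refine ⟨v, v.2, hvn, ?_⟩
  rw [mem_normalizer_iff]
  intro d
  rw [mem_normalizer_iff] at hv
  constructor
  · intro hd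
    have := (hv ⟨d, hDT hd⟩).mp hd
    exact this
  · intro hd
    have hvd : (v : G) * d * (v : G)⁻¹ ∈ T := hd |> hDT
    have hdT : d ∈ T := by
      have : d = (v : G)⁻¹ * ((v : G) * d * (v : G)⁻¹) * (v : G) := by group
      rw [this]
      exact T.mul_mem (T.mul_mem (T.inv_mem v.2) hvd) v.2
    exact (hv ⟨d, hdT⟩).mpr hd

/-- The second centre of a non-abelian `p`-group is larger than the centre. -/
theorem exists_second_center {P : Type*} [Group P] [Finite P] {p : ℕ} [hp : Fact p.Prime]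
    (hP : IsPGroup p P) (hna : ¬ IsMulCommutative P) :
    ∃ t : P, t ∉ center P ∧ ∀ s : P, t * s * t⁻¹ * s⁻¹ ∈ center P := by
  have hQ : IsPGroup p (P ⧸ center P) := hP.to_quotient _
  haveI : Nontrivial (P ⧸ center P) := by
    by_contra hall
    rw [not_nontrivial_iff_subsingleton] at hall
    apply hna
    refine ⟨⟨fun a b => ?_⟩⟩
    have h1 : (QuotientGroup.mk' (center P)) a = 1 := Subsingleton.elim _ _
    have h2 : a ∈ center P := (QuotientGroup.eq_one_iff a).mp h1
    exact (mem_center_iff.mp h2 b).symm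
  haveI := hQ.center_nontrivial
  obtain ⟨c, hc⟩ := exists_ne (1 : center (P ⧸ center P))
  obtain ⟨t, ht⟩ := QuotientGroup.mk'_surjective (center P) (c : P ⧸ center P)
  refine ⟨t, ?_, ?_⟩
  · intro htZ
    apply hc
    apply Subtype.ext
    rw [← ht]
    exact (QuotientGroup.eq_one_iff t).mpr htZ
  · intro s
    rw [← QuotientGroup.eq_one_iff]
    have h3 : (QuotientGroup.mk' (center P) t) * (QuotientGroup.mk' (center P) s) =
        (QuotientGroup.mk' (center P) s) * (QuotientGroup.mk' (center P) t) := by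
      rw [ht]
      exact (mem_center_iff.mp c.2 _).symm
    have h4 : ((t * s * t⁻¹ * s⁻¹ : P) : P ⧸ center P) = QuotientGroup.mk' (center P) (t * s * t⁻¹ * s⁻¹) := rfl
    rw [h4, map_mul, map_mul, map_mul, h3, map_inv, map_inv]
    group

section main

variable (h : ∀ x : G, x ∉ center G → IsCoatom (cen x))

/-- The property of non-central `p`-elements with non-abelian, non-normal centralizer. -/
structure Good (p : ℕ) (x : G) : Prop where
  notCentral : x ∉ center G
  order : ∃ k, orderOf x = p ^ k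
  nonabelian : ¬ IsMulCommutative (cen x)
  nonnormal : ¬ (cen x).Normal

include h in
/-- The structure of a non-abelian non-normal centralizer: a Sylow `p`-subgroup of `G` times central
elements. -/
theorem exists_sylow {p : ℕ} [hp : Fact p.Prime] {x : G} (hg : Good p x) :
    ∃ S : Sylow p G, (S : Subgroup G) ≤ cen x ∧
      ∀ m ∈ cen x, ∃ s ∈ (S : Subgroup G), ∃ z ∈ center G, m = s * z := by
  obtain ⟨hxZ, ⟨k, hxo⟩, hna, hnn⟩ := hg
  set M := cen x with hM
  haveI hnil : Group.IsNilpotent M := isNilpotent_cen h hxZ hxo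
  obtain ⟨P₁⟩ : Nonempty (Sylow p M) := inferInstance
  have hP₁n : (P₁ : Subgroup M).Normal := by
    have htf := (Group.isNilpotent_of_finite_tfae (G := M)).out 0 3
    exact htf.mp hnil p hp P₁
  -- `p`-elements of `M` lie in `P₁`
  set Q : Subgroup G := (P₁ : Subgroup M).map M.subtype with hQ
  have hQM : Q ≤ M := by
    rintro _ ⟨y, -, rfl⟩
    exact y.2
  have hQp : IsPGroup p Q := P₁.isPGroup'.map M.subtype
  have hpel : ∀ v ∈ M, (∃ l, v ^ p ^ l = 1) → v ∈ Q := by
    intro v hv ⟨l, hl⟩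
    have hzp : IsPGroup p (zpowers (⟨v, hv⟩ : M)) := by
      rw [IsPGroup.iff_card, Nat.card_zpowers]
      obtain ⟨j, hj⟩ := isPrimePow_part hp.out (x := (⟨v, hv⟩ : M)) (k := l) (Subtype.ext hl)
      exact ⟨j, hj⟩
    obtain ⟨P₂, hP₂⟩ := hzp.exists_le_sylow
    haveI : Unique (Sylow p M) := Sylow.unique_of_normal P₁ hP₁n
    have h2 : P₂ = P₁ := Subsingleton.elim _ _
    have h3 : (⟨v, hv⟩ : M) ∈ (P₂ : Subgroup M) := hP₂ (mem_zpowers _)
    rw [h2] at h3
    exact ⟨_, h3, rfl⟩
  have hdec : ∀ m ∈ M, ∃ s ∈ Q, ∃ z ∈ center G, m = s * z := by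
    intro m hm
    obtain ⟨a, b, rfl, -, ha, hb, hap, hbc⟩ :=
      Cfsg.Agent.Lib.Transfer.Basic.exists_pPart_decomp (p := p) m
    refine ⟨a, hpel a ((zpowers_le_cen hm) ha) hap, b, ?_, rfl⟩
    exact mem_center_of_nonabelian h hxZ hxo hna ((zpowers_le_cen hm) hb) hbc
  have hZM : center G ≤ M := by
    intro z hz
    exact mem_cen.mpr ((mem_center_iff.mp hz x)).symm
  have hMN : M ≤ normalizer (Q : Set G) := by
    intro m hm
    rw [mem_normalizer_iff]
    intro y
    constructor
    · rintro ⟨y₁, hy₁, rfl⟩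
      have := hP₁n.conj_mem y₁ hy₁ ⟨m, hm⟩
      exact ⟨_, this, rfl⟩
    · intro hy
      obtain ⟨y₁, hy₁, hy₂⟩ := hy
      have h9 := hP₁n.conj_mem y₁ hy₁ (⟨m, hm⟩ : M)⁻¹
      refine ⟨_, h9, ?_⟩
      simp only [subtype_apply, InvMemClass.coe_inv, MulMemClass.coe_mul, inv_inv] at hy₂ ⊢
      rw [hy₂]
      group
  -- `Q` is not normal in `G`
  have hNne : normalizer (Q : Set G) ≠ ⊤ := by
    intro htop
    apply hnn
    constructor
    intro m hm g
    obtain ⟨s, hs, z, hz, rfl⟩ := hdec m hm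
    have h1 : g * s * g⁻¹ ∈ Q := by
      have hgN : g ∈ normalizer (Q : Set G) := htop ▸ mem_top g
      exact (mem_normalizer_iff.mp hgN s).mp hs
    have h2 : g * (s * z) * g⁻¹ = (g * s * g⁻¹) * z := by
      have := mem_center_iff.mp hz g
      calc g * (s * z) * g⁻¹ = g * s * (z * g⁻¹) := by group
        _ = g * s * (g⁻¹ * z) := by rw [(mem_center_iff.mp hz g⁻¹).symm]
        _ = (g * s * g⁻¹) * z := by group
    rw [h2]
    exact M.mul_mem (hQM h1) (hZM hz)
  have hNM : normalizer (Q : Set G) = M := by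
    by_contra hne
    exact hNne ((h x hxZ).2 _ (lt_of_le_of_ne hMN (Ne.symm hne)))
  obtain ⟨S, hQS⟩ := hQp.exists_le_sylow
  have hSQ : (S : Subgroup G) = Q := by
    by_contra hne
    obtain ⟨v, hvS, hvQ, hvN⟩ := exists_mem_normalizer S.isPGroup' hQS (Ne.symm hne)
    rw [hNM] at hvN
    obtain ⟨l, hl⟩ := S.isPGroup' ⟨v, hvS⟩
    exact hvQ (hpel v hvN ⟨l, congrArg Subtype.val hl⟩)
  refine ⟨S, hSQ ▸ hQM, ?_⟩
  rw [hSQ]
  exact hdec

theorem le_normalizer_of_dec {p : ℕ} [hp : Fact p.Prime] {M : Subgroup G} (S : Sylow p G)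
    (hSM : (S : Subgroup G) ≤ M)
    (hdec : ∀ m ∈ M, ∃ s ∈ (S : Subgroup G), ∃ z ∈ center G, m = s * z) :
    M ≤ normalizer ((S : Subgroup G) : Set G) := by
  intro m hm
  obtain ⟨s, hs, z, hz, rfl⟩ := hdec m hm
  refine mul_mem (le_normalizer hs) ?_
  rw [mem_normalizer_iff]
  intro y
  have : z * y * z⁻¹ = y := by
    rw [← (mem_center_iff.mp hz y)]
    group
  rw [this]

include h in
/-- The property `Good` spreads to all non-central elements of the Sylow subgroup. -/
theorem good_of_mem {p : ℕ} [hp : Fact p.Prime] {x u : G} (hg : Good p x) (S : Sylow p G)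
    (hSM : (S : Subgroup G) ≤ cen x)
    (hdec : ∀ m ∈ cen x, ∃ s ∈ (S : Subgroup G), ∃ z ∈ center G, m = s * z)
    (hu : u ∈ (S : Subgroup G)) (huZ : u ∉ center G) : Good p u := by
  obtain ⟨j, huo⟩ := orderOf_of_mem S.isPGroup' hu
  by_cases hc : cen u = cen x
  · exact ⟨huZ, ⟨j, huo⟩, hc ▸ hg.nonabelian, hc ▸ hg.nonnormal⟩
  have hxu : x ∈ cen u := mem_cen_comm.mp (hSM hu)
  obtain ⟨hxZ, ⟨k, hxo⟩, hna, hnn⟩ := hg
  refine ⟨huZ, ⟨j, huo⟩, ?_, ?_⟩
  · intro hab
    apply hc
    apply cen_eq_of_le h huZ hxZ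
    intro m hm
    have := hab.is_comm.comm (⟨m, hm⟩ : cen u) ⟨x, hxu⟩
    exact mem_cen.mpr (congrArg Subtype.val this)
  · intro hL
    apply hnn
    -- all `p'`-elements of `G` are central
    have hSL : ¬ (S : Subgroup G) ≤ cen u := by
      intro hle
      apply hc
      symm
      apply cen_eq_of_le h hxZ huZ
      intro m hm
      obtain ⟨s, hs, z, hz, rfl⟩ := hdec m hm
      exact mul_mem (hle hs) (mem_cen.mpr (mem_center_iff.mp hz u).symm)
    have hsup : (S : Subgroup G) ⊔ cen u = ⊤ := by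
      have h1 := (h u huZ).2 ((S : Subgroup G) ⊔ cen u)
      apply h1
      refine lt_of_le_of_ne le_sup_right ?_
      intro heq
      exact hSL (by rw [heq]; exact le_sup_left)
    have hQ : IsPGroup p (G ⧸ cen u) := by
      intro q
      obtain ⟨g, rfl⟩ := QuotientGroup.mk'_surjective _ q
      have hg : g ∈ (S : Subgroup G) ⊔ cen u := hsup ▸ mem_top g
      obtain ⟨s, hs, l, hl, rfl⟩ := Subgroup.mem_sup_of_normal_right.mp hg
      obtain ⟨e, he⟩ := S.isPGroup' ⟨s, hs⟩
      refine ⟨e, ?_⟩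
      have hl' : (QuotientGroup.mk' (cen u)) l = 1 := (QuotientGroup.eq_one_iff l).mpr hl
      rw [map_mul, hl', mul_one, ← map_pow]
      have he' : s ^ p ^ e = 1 := congrArg Subtype.val he
      rw [he', map_one]
    have hcen : ∀ y : G, (orderOf y).Coprime p → y ∈ center G := by
      intro y hy
      have hyL : y ∈ cen u := by
        have := Cfsg.Agent.Lib.Transfer.Basic.map_eq_one_of_coprime_of_isPGroup hQ
          (QuotientGroup.mk' (cen u)) hy
        exact (QuotientGroup.eq_one_iff y).mp this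
      have hyx : y ∈ cen x := by
        have := comm_of_coprime h huZ huo hyL hy hxu
        exact mem_cen.mpr this.symm
      exact mem_center_of_nonabelian h hxZ hxo hna hyx hy
    have hnil : Group.IsNilpotent G := isNilpotent_of_coprime_central hcen
    have htf := (Group.isNilpotent_of_finite_tfae (G := G)).out 0 2
    exact htf.mp hnil _ (h x hxZ)

include h in
/-- A non-normal centralizer of a non-central `p`-element is abelian. -/
theorem not_good {p : ℕ} [hp : Fact p.Prime] {x : G} (hg : Good p x) : False := by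
  obtain ⟨S, hSM, hdec⟩ := exists_sylow h hg
  have hSna : ¬ IsMulCommutative (S : Subgroup G) := by
    intro hab
    apply hg.nonabelian
    refine ⟨⟨fun a b => Subtype.ext ?_⟩⟩
    obtain ⟨s₁, hs₁, z₁, hz₁, ha⟩ := hdec a a.2
    obtain ⟨s₂, hs₂, z₂, hz₂, hb⟩ := hdec b b.2
    have h1 := hab.is_comm.comm (⟨s₁, hs₁⟩ : (S : Subgroup G)) ⟨s₂, hs₂⟩
    have h2 : s₁ * s₂ = s₂ * s₁ := congrArg Subtype.val h1
    simp only [MulMemClass.coe_mul]
    rw [ha, hb]
    calc s₁ * z₁ * (s₂ * z₂) = s₁ * (z₁ * s₂) * z₂ := by group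
      _ = s₁ * (s₂ * z₁) * z₂ := by rw [(mem_center_iff.mp hz₁ s₂).symm]
      _ = s₂ * s₁ * z₁ * z₂ := by rw [← mul_assoc, h2]
      _ = s₂ * (s₁ * z₁) * z₂ := by group
      _ = s₂ * (z₂ * (s₁ * z₁)) := by rw [mul_assoc s₂, (mem_center_iff.mp hz₂ (s₁ * z₁))]
      _ = s₂ * z₂ * (s₁ * z₁) := by group
  obtain ⟨t₀, ht₀, ht₀c⟩ := exists_second_center S.isPGroup' hSna
  set t : G := (t₀ : G) with ht
  have htS : t ∈ (S : Subgroup G) := t₀.2
  -- `t` does not commute with all of `S`
  have htnS : ∃ s ∈ (S : Subgroup G), s * t ≠ t * s := by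
    by_contra hall
    push Not at hall
    apply ht₀
    rw [mem_center_iff]
    intro s
    exact Subtype.ext (hall s s.2)
  have htZ : t ∉ center G := by
    intro hZ
    obtain ⟨s, -, hs⟩ := htnS
    exact hs (mem_center_iff.mp hZ s)
  have hgt := good_of_mem h hg S hSM hdec htS htZ
  obtain ⟨T, hTM, hTdec⟩ := exists_sylow h hgt
  have hTN := le_normalizer_of_dec T hTM hTdec
  have hSN := le_normalizer_of_dec S hSM hdec
  set A := (S : Subgroup G) with hA
  set D := A ⊓ (T : Subgroup G) with hD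
  have hDeq : ∀ v, v ∈ D ↔ v ∈ A ∧ v ∈ cen t := by
    intro v
    constructor
    · rintro ⟨h1, h2⟩
      exact ⟨h1, hTM h2⟩
    · rintro ⟨h1, h2⟩
      obtain ⟨k, hk⟩ := orderOf_of_mem S.isPGroup' h1
      exact ⟨h1, mem_sylow_of_mem_normalizer T hk (hTN h2)⟩
  -- central elements of `S` lie in `D`
  have hZD : ∀ z ∈ A, (∀ a ∈ A, a * z = z * a) → z ∈ D := by
    intro z hz hzc
    rw [hDeq]
    exact ⟨hz, mem_cen.mpr (hzc t htS).symm⟩
  -- `S` normalizes `D`
  have hAD : A ≤ normalizer (D : Set G) := by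
    have hkey : ∀ s ∈ A, ∀ d ∈ D, s * d * s⁻¹ ∈ D := by
      intro s hs d hd
      rw [hDeq] at hd ⊢
      refine ⟨A.mul_mem (A.mul_mem hs hd.1) (A.inv_mem hs), ?_⟩
      have hc : (⟨t, htS⟩ : (S : Subgroup G)) * ⟨s, hs⟩ * (⟨t, htS⟩ : (S : Subgroup G))⁻¹ * ⟨s, hs⟩⁻¹ ∈
          center (S : Subgroup G) := ht₀c ⟨s, hs⟩
      set c : G := t * s * t⁻¹ * s⁻¹ with hcdef
      have hcA : c ∈ A := A.mul_mem (A.mul_mem (A.mul_mem htS hs) (A.inv_mem htS)) (A.inv_mem hs)
      have hcc : ∀ a ∈ A, a * c = c * a := by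
        intro a ha
        have := (mem_center_iff.mp hc) ⟨a, ha⟩
        exact congrArg Subtype.val this
      have hdt : d * t = t * d := mem_cen.mp hd.2
      have h1 : s⁻¹ * t * s = c * t := by
        have h5 := hcc s⁻¹ (A.inv_mem hs)
        calc s⁻¹ * t * s = s⁻¹ * (t * s * t⁻¹ * s⁻¹) * (s * t) := by group
          _ = s⁻¹ * c * (s * t) := by rw [hcdef]
          _ = c * s⁻¹ * (s * t) := by rw [h5]
          _ = c * t := by group
      rw [mem_cen]
      have h2 : d * (c * t) = (c * t) * d := by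
        calc d * (c * t) = (d * c) * t := by group
          _ = c * d * t := by rw [hcc d hd.1]
          _ = c * (d * t) := by group
          _ = c * (t * d) := by rw [hdt]
          _ = (c * t) * d := by group
      have h3 : d * (s⁻¹ * t * s) = (s⁻¹ * t * s) * d := by rw [h1, h2]
      calc s * d * s⁻¹ * t = s * (d * (s⁻¹ * t * s)) * s⁻¹ := by group
        _ = s * ((s⁻¹ * t * s) * d) * s⁻¹ := by rw [h3]
        _ = t * (s * d * s⁻¹) := by group
    intro s hs
    rw [mem_normalizer_iff]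
    intro d
    constructor
    · exact hkey s hs d
    · intro hd
      have := hkey s⁻¹ (A.inv_mem hs) _ hd
      simpa [mul_assoc] using this
  have hMD : cen x ≤ normalizer (D : Set G) := by
    intro m hm
    obtain ⟨s, hs, z, hz, rfl⟩ := hdec m hm
    refine mul_mem (hAD hs) ?_
    rw [mem_normalizer_iff]
    intro y
    have : z * y * z⁻¹ = y := by
      rw [← (mem_center_iff.mp hz y)]
      group
    rw [this]
  have hTA : (T : Subgroup G) ≠ A := by
    intro heq
    apply ht₀
    rw [mem_center_iff]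
    intro s
    apply Subtype.ext
    have : (s : G) ∈ (T : Subgroup G) := heq ▸ s.2
    exact mem_cen.mp (hTM this)
  have hDT : D ≠ (T : Subgroup G) := by
    intro heq
    have hle : (T : Subgroup G) ≤ A := by
      rw [← heq]
      exact inf_le_left
    have : A = (T : Subgroup G) := by
      have := T.is_maximal' S.isPGroup' hle
      exact this
    exact hTA this.symm
  obtain ⟨v, hvT, hvD, hvN⟩ := exists_mem_normalizer T.isPGroup' inf_le_right hDT
  have hvM : v ∉ cen x := by
    intro hvM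
    obtain ⟨k, hk⟩ := orderOf_of_mem T.isPGroup' hvT
    exact hvD ⟨mem_sylow_of_mem_normalizer S hk (hSN hvM), hvT⟩
  have hNtop : normalizer (D : Set G) = ⊤ := by
    apply (h x hg.notCentral).2
    refine lt_of_le_of_ne hMD ?_
    intro heq
    rw [← heq] at hvN
    exact hvM hvN
  have hDn : ∀ d ∈ D, ∀ g : G, g * d * g⁻¹ ∈ D := by
    intro d hd g
    have hgN : g ∈ normalizer (D : Set G) := hNtop ▸ mem_top g
    exact (mem_normalizer_iff.mp hgN d).mp hd
  -- central elements of any Sylow subgroup lie in `D`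
  have hZR : ∀ R : Sylow p G, ∀ z ∈ (R : Subgroup G), (∀ a ∈ (R : Subgroup G), a * z = z * a) → z ∈ D := by
    intro R z hz hzc
    obtain ⟨g, rfl⟩ := MulAction.exists_smul_eq G S R
    have hmem : ∀ y, y ∈ ((g • S : Sylow p G) : Subgroup G) ↔ g⁻¹ * y * g ∈ A := by
      intro y
      rw [Sylow.coe_subgroup_smul, Subgroup.mem_pointwise_smul_iff_inv_smul_mem]
      simp only [smul_eq_mul, MulAut.smul_def, MulAut.inv_apply, MulAut.conj_apply, inv_inv]
      exact Iff.rfl
    have h1 : g⁻¹ * z * g ∈ D := by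
      apply hZD _ ((hmem z).mp hz)
      intro a ha
      have h2 : g * a * g⁻¹ ∈ ((g • S : Sylow p G) : Subgroup G) := by
        rw [hmem]
        simpa [mul_assoc] using ha
      have h3 := hzc _ h2
      calc a * (g⁻¹ * z * g) = g⁻¹ * (g * a * g⁻¹ * z) * g := by group
        _ = g⁻¹ * (z * (g * a * g⁻¹)) * g := by rw [h3]
        _ = g⁻¹ * z * g * a := by group
    have := hDn _ h1 g
    simpa [mul_assoc] using this
  -- every element of `S` lies in `D`
  have hAle : A ≤ D := by
    intro u hu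
    by_cases huZ : u ∈ center G
    · apply hZD u hu
      intro a _
      exact mem_center_iff.mp huZ a
    · have hgu := good_of_mem h hg S hSM hdec hu huZ
      obtain ⟨R, hRM, hRdec⟩ := exists_sylow h hgu
      have hRN := le_normalizer_of_dec R hRM hRdec
      obtain ⟨k, hk⟩ := orderOf_of_mem S.isPGroup' hu
      have huM : u ∈ cen u := mem_cen.mpr rfl
      have huR : u ∈ (R : Subgroup G) := mem_sylow_of_mem_normalizer R hk (hRN huM)
      apply hZR R u huR
      intro a ha
      exact mem_cen.mp (hRM ha)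
  apply ht₀
  rw [mem_center_iff]
  intro s
  apply Subtype.ext
  exact mem_cen.mp ((hDeq _).mp (hAle s.2)).2

end main

end Cfsg.Agent.Lib.CentMax.Abelian
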